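import Mathlib.GroupTheory.Index
import Mathlib.GroupTheory.Sylow
import Mathlib.GroupTheory.SpecificGroups.Cyclic
import Mathlib.GroupTheory.Nilpotent
import Mathlib.Algebra.Squarefree.Basic
import Mathlib.Data.Nat.Squarefree
import Mathlib.GroupTheory.GroupAction.ConjAct

/-!
# Class sizes: divisibility, displacement maps on abelian normal subgroups
-/

set_option autoImplicit false
set_option linter.unusedSectionVars false

namespace Cfsg.Agent.ClassSq

open Subgroup

variable {G : Type*} [Group G]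

/-- The size of the class of `x`. -/
noncomputable abbrev cls (x : G) : ℕ := (centralizer ({x} : Set G)).index

theorem mem_cent {x g : G} : g ∈ centralizer ({x} : Set G) ↔ g * x = x * g := by
  rw [mem_centralizer_singleton_iff]

theorem cls_map_dvd {H : Type*} [Group H] (f : G →* H) (hf : Function.Surjective f) (x : G) :
    cls (f x) ∣ cls x := by
  have hle : centralizer ({x} : Set G) ≤ (centralizer ({f x} : Set H)).comap f := by
    intro g hg
    rw [mem_comap, mem_cent, ← map_mul, ← map_mul, mem_cent.mp hg]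
  exact (dvd_of_eq (index_comap_of_surjective (H := centralizer ({f x} : Set H)) hf).symm).trans
    (index_dvd_of_le hle)

variable [Finite G]

theorem relIndex_dvd_index_normal (C N : Subgroup G) [N.Normal] : C.relIndex N ∣ C.index := by
  have h1 : N.relIndex C = N.relIndex (C ⊔ N) := (relIndex_sup_right C N).symm
  have h2 := relIndex_mul_relIndex (C ⊓ N) C (C ⊔ N) inf_le_left le_sup_left
  have h3 := relIndex_mul_relIndex (C ⊓ N) N (C ⊔ N) inf_le_right le_sup_right
  rw [inf_relIndex_left] at h2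
  rw [inf_relIndex_right] at h3
  have hne : N.relIndex C ≠ 0 := index_ne_zero_of_finite
  have h4 : C.relIndex (C ⊔ N) = C.relIndex N := by
    apply mul_left_cancel₀ hne
    rw [h2, ← h3, ← h1, mul_comm]
  exact h4 ▸ relIndex_dvd_index_of_le le_sup_left

theorem cls_subgroup_dvd (N : Subgroup G) [N.Normal] (x : N) : cls x ∣ cls (x : G) := by
  have h : centralizer ({x} : Set N) = (centralizer ({(x : G)} : Set G)).subgroupOf N := by
    ext g
    rw [mem_subgroupOf, mem_cent, mem_cent, Subtype.ext_iff, coe_mul, coe_mul]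
  change (centralizer ({x} : Set N)).index ∣ _
  rw [h]
  exact relIndex_dvd_index_normal _ _

section Displacement

variable (N : Subgroup G) [N.Normal] [IsMulCommutative N]

/-- `n ↦ g n g⁻¹ n⁻¹`, an endomorphism of an abelian normal subgroup. -/
def disp (g : G) : N →* N where
  toFun n := ⟨g * n * g⁻¹ * (n : G)⁻¹, mul_mem (Normal.conj_mem ‹N.Normal› _ n.2 g) (inv_mem n.2)⟩
  map_one' := by ext; simp
  map_mul' m n := by
    have hc : ∀ a b : N, (a : G) * b = b * a := fun a b =>
      congrArg Subtype.val (IsMulCommutative.is_comm.comm a b)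
    ext
    simp only [coe_mul]
    have h := hc ⟨g * n * g⁻¹ * (n : G)⁻¹, mul_mem (Normal.conj_mem ‹N.Normal› _ n.2 g) (inv_mem n.2)⟩ m⁻¹
    simp only [coe_inv] at h
    calc g * ((m : G) * n) * g⁻¹ * ((m : G) * n)⁻¹
        = g * m * g⁻¹ * ((g * n * g⁻¹ * (n : G)⁻¹) * (m : G)⁻¹) := by group
      _ = g * m * g⁻¹ * ((m : G)⁻¹ * (g * n * g⁻¹ * (n : G)⁻¹)) := by rw [h]
      _ = g * m * g⁻¹ * (m : G)⁻¹ * (g * n * g⁻¹ * (n : G)⁻¹) := by group

theorem coe_disp (g : G) (n : N) : (disp N g n : G) = g * n * g⁻¹ * (n : G)⁻¹ := rfl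

theorem conj_eq_disp (g : G) (n : N) : g * n * g⁻¹ = (disp N g n : G) * n := by
  rw [coe_disp]; group

theorem disp_eq_one_iff {g : G} {n : N} : disp N g n = 1 ↔ g * (n : G) = n * g := by
  rw [Subtype.ext_iff, coe_disp, coe_one, mul_inv_eq_one, mul_inv_eq_iff_eq_mul]

theorem ker_disp (g : G) : (disp N g).ker = (centralizer ({g} : Set G)).subgroupOf N := by
  ext n
  rw [MonoidHom.mem_ker, mem_subgroupOf, mem_cent, disp_eq_one_iff]
  exact eq_comm

theorem card_range_disp_dvd (g : G) : Nat.card (disp N g).range ∣ cls g := by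
  rw [← index_ker, ker_disp]
  exact relIndex_dvd_index_normal _ _

/-- If `g` translates `w` by a `g`-fixed `b`, its powers translate by powers of `b`. -/
theorem pow_conj {g : G} {w : N} (hb : disp N g (disp N g w) = 1) (k : ℕ) :
    g ^ k * (w : G) * (g ^ k)⁻¹ = (disp N g w : G) ^ k * w := by
  induction k with
  | zero => simp
  | succ k ih =>
    have hcomm : Commute g ((disp N g w : G) ^ k) :=
      Commute.pow_right (disp_eq_one_iff N |>.mp hb) k
    calc g ^ (k + 1) * (w : G) * (g ^ (k + 1))⁻¹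
        = g * (g ^ k * (w : G) * (g ^ k)⁻¹) * g⁻¹ := by rw [pow_succ']; group
      _ = g * ((disp N g w : G) ^ k * w) * g⁻¹ := by rw [ih]
      _ = (disp N g w : G) ^ k * (g * w * g⁻¹) := by rw [← mul_assoc, hcomm.eq]; group
      _ = (disp N g w : G) ^ k * ((disp N g w : G) * w) := by rw [conj_eq_disp]
      _ = (disp N g w : G) ^ (k + 1) * w := by rw [pow_succ, mul_assoc]

variable {p : ℕ} [Fact p.Prime]

/-- If an element acting with order prime to `p` translates by a fixed element of order `p`, it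
acts trivially. -/
theorem disp_eq_one_of_fixed {g : G} (hg : ∃ m : ℕ, ¬ p ∣ m ∧ g ^ m ∈ centralizer (N : Set G))
    (hcard : Nat.card (disp N g).range ∣ p) {w : N} (hb : disp N g (disp N g w) = 1) :
    disp N g w = 1 := by
  obtain ⟨m, hm, hmC⟩ := hg
  have h1 : orderOf (disp N g w) ∣ p := by
    have hmem : disp N g w ∈ (disp N g).range := ⟨w, rfl⟩
    exact (Subgroup.orderOf_mk _ hmem ▸ orderOf_dvd_natCard (⟨_, hmem⟩ : (disp N g).range)).trans
      hcard
  have h2 : (disp N g w) ^ m = 1 := by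
    have := pow_conj N hb m
    rw [← mem_centralizer_iff.mp hmC w w.2, mul_inv_cancel_right] at this
    exact Subtype.ext (by simpa using right_eq_mul.mp this)
  exact orderOf_eq_one_iff.mp
    (Nat.eq_one_of_dvd_coprimes ((Fact.out : p.Prime).coprime_iff_not_dvd.mpr hm) h1
      (orderOf_dvd_of_pow_eq_one h2))

theorem ker_index_dvd (g : G) (hcard : Nat.card (disp N g).range ∣ p) :
    (disp N g).ker.index ∣ p := by rwa [index_ker]

/-- Two elements whose actions commute, all displacements of size at most `p`, the first acting with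
order prime to `p`: the fixed subgroups coincide. -/
theorem ker_eq_of_commute {g h : G} (hg : ∃ m : ℕ, ¬ p ∣ m ∧ g ^ m ∈ centralizer (N : Set G))
    (hcard : ∀ x : G, Nat.card (disp N x).range ∣ p)
    (hcomm : ∀ n : N, g * h * n * (g * h)⁻¹ = h * g * n * (h * g)⁻¹)
    (hg1 : (disp N g).ker ≠ ⊤) (hh1 : (disp N h).ker ≠ ⊤) :
    (disp N g).ker = (disp N h).ker := by
  have hidx : ∀ x : G, (disp N x).ker ≠ ⊤ → (disp N x).ker.index = p := fun x hx =>
    ((Nat.dvd_prime Fact.out).mp (ker_index_dvd N x (hcard x))).resolve_left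
      fun h => hx (index_eq_one.mp h)
  have heq : ∀ K L : Subgroup N, K ≤ L → K.index = p → L.index = p → K = L := fun K L hKL hK hL => by
    refine le_antisymm hKL ?_
    have h := relIndex_mul_index hKL
    rw [hK, hL] at h
    exact relIndex_eq_one.mp (mul_eq_right₀ (Fact.out : p.Prime).ne_zero |>.mp h)
  by_contra hne
  have hnot : ¬ (disp N g).ker ≤ (disp N h).ker := fun hle =>
    hne (heq _ _ hle (hidx g hg1) (hidx h hh1))
  have hnot' : ¬ (disp N h).ker ≤ (disp N g).ker := fun hle =>
    hne (heq _ _ hle (hidx h hh1) (hidx g hg1)).symm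
  obtain ⟨v, hvg, hvh⟩ := Set.not_subset.mp hnot
  obtain ⟨w, hwh, hwg⟩ := Set.not_subset.mp hnot'
  simp only [SetLike.mem_coe, MonoidHom.mem_ker] at hvg hvh hwh hwg
  -- the translation of `v` by `h` is fixed by `g`
  have ha : disp N g (disp N h v) = 1 := by
    have h1 := hcomm v
    have e1 : g * h * (v : G) * (g * h)⁻¹ = g * (disp N h v : G) * g⁻¹ * (v : G) := by
      calc g * h * (v : G) * (g * h)⁻¹ = g * (h * v * h⁻¹) * g⁻¹ := by group
        _ = g * ((disp N h v : G) * v) * g⁻¹ := by rw [conj_eq_disp]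
        _ = g * (disp N h v : G) * g⁻¹ * (g * v * g⁻¹) := by group
        _ = g * (disp N h v : G) * g⁻¹ * v := by rw [conj_eq_disp N g v, hvg, coe_one, one_mul]
    have e2 : h * g * (v : G) * (h * g)⁻¹ = (disp N h v : G) * v := by
      calc h * g * (v : G) * (h * g)⁻¹ = h * (g * v * g⁻¹) * h⁻¹ := by group
        _ = h * v * h⁻¹ := by rw [conj_eq_disp N g v, hvg, coe_one, one_mul]
        _ = _ := conj_eq_disp N h v
    rw [e1, e2] at h1
    rw [disp_eq_one_iff]
    exact mul_inv_eq_iff_eq_mul.mp (mul_right_cancel h1)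
  have hav : disp N (g * h) v = disp N h v := by
    ext
    rw [coe_disp]
    calc g * h * (v : G) * (g * h)⁻¹ * (v : G)⁻¹
        = g * (h * v * h⁻¹) * g⁻¹ * (v : G)⁻¹ := by group
      _ = g * ((disp N h v : G) * v) * g⁻¹ * (v : G)⁻¹ := by rw [conj_eq_disp]
      _ = g * (disp N h v : G) * g⁻¹ * (g * v * g⁻¹ * (v : G)⁻¹) := by group
      _ = (disp N h v : G) := by
        rw [← coe_disp, hvg, coe_one, mul_one, disp_eq_one_iff N |>.mp ha, mul_inv_cancel_right]
  have hbw : disp N (g * h) w = disp N g w := by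
    ext
    rw [coe_disp]
    calc g * h * (w : G) * (g * h)⁻¹ * (w : G)⁻¹
        = g * (h * w * h⁻¹) * g⁻¹ * (w : G)⁻¹ := by group
      _ = g * w * g⁻¹ * (w : G)⁻¹ := by rw [conj_eq_disp N h w, hwh, coe_one, one_mul]
      _ = _ := rfl
  -- the displacements of `g * h` lie in a group of order at most `p`
  have hmem : disp N g w ∈ zpowers (disp N h v) := by
    have hA : disp N h v ∈ (disp N (g * h)).range := ⟨v, hav⟩
    have hB : disp N g w ∈ (disp N (g * h)).range := ⟨w, hbw⟩
    have hle : zpowers (disp N h v) ≤ (disp N (g * h)).range := zpowers_le.mpr hA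
    have hc : Nat.card (zpowers (disp N h v)) = p := by
      rw [Nat.card_zpowers]
      exact ((Nat.dvd_prime Fact.out).mp ((by
        rw [← Nat.card_zpowers]; exact (card_dvd_of_le hle).trans (hcard _)))).resolve_left
        fun h => hvh (orderOf_eq_one_iff.mp h)
    have := eq_of_le_of_card_ge hle (hc.symm ▸ Nat.le_of_dvd (Fact.out : p.Prime).pos (hcard _))
    exact this ▸ hB
  have hfix : disp N g (disp N g w) = 1 := by
    obtain ⟨k, hk⟩ := mem_zpowers_iff.mp hmem
    rw [← hk, map_zpow, ha, one_zpow]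
  exact hwg (disp_eq_one_of_fixed N hg (hcard g) hfix)

/-- In the situation of `ker_eq_of_commute`, if both act with order prime to `p`, the translations
coincide as well. -/
theorem range_eq_of_commute {g h : G} (hg : ∃ m : ℕ, ¬ p ∣ m ∧ g ^ m ∈ centralizer (N : Set G))
    (hh : ∃ m : ℕ, ¬ p ∣ m ∧ h ^ m ∈ centralizer (N : Set G))
    (hcard : ∀ x : G, Nat.card (disp N x).range ∣ p)
    (hcomm : ∀ n : N, g * h * n * (g * h)⁻¹ = h * g * n * (h * g)⁻¹)
    (hg1 : (disp N g).ker ≠ ⊤) (hh1 : (disp N h).ker ≠ ⊤) :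
    (disp N g).range = (disp N h).range := by
  have hK := ker_eq_of_commute N hg hcard hcomm hg1 hh1
  obtain ⟨v, hv⟩ : ∃ v : N, disp N h v ≠ 1 := by
    by_contra hall
    push Not at hall
    exact hh1 (eq_top_iff.mpr fun n _ => MonoidHom.mem_ker.mpr (hall n))
  have ha : disp N g (disp N h v) ≠ 1 := fun hc => by
    have : disp N h v ∈ (disp N h).ker := hK ▸ MonoidHom.mem_ker.mpr hc
    exact hv (disp_eq_one_of_fixed N hh (hcard h) (MonoidHom.mem_ker.mp this))
  have hmem : disp N g (disp N h v) ∈ (disp N h).range := by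
    -- `g` maps translations of `h` to translations of `h`
    let gv : N := ⟨g * v * g⁻¹, Normal.conj_mem ‹N.Normal› _ v.2 g⟩
    have hsplit : disp N g (disp N h v) = disp N h gv * (disp N h v)⁻¹ := by
      ext
      rw [coe_mul, coe_inv, coe_disp N g, coe_disp N h gv, coe_disp N h v]
      have h1 := hcomm v
      calc g * (h * v * h⁻¹ * (v : G)⁻¹) * g⁻¹ * (h * v * h⁻¹ * (v : G)⁻¹)⁻¹
          = (g * h * v * (g * h)⁻¹) * (g * v * g⁻¹)⁻¹ * (h * v * h⁻¹ * (v : G)⁻¹)⁻¹ := by group
        _ = (h * g * v * (h * g)⁻¹) * (g * v * g⁻¹)⁻¹ * (h * v * h⁻¹ * (v : G)⁻¹)⁻¹ := by rw [h1]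
        _ = _ := by simp only [gv]; group
    rw [hsplit]
    exact mul_mem ⟨gv, rfl⟩ (inv_mem ⟨v, rfl⟩)
  have hp := (Fact.out : p.Prime)
  have hcard' : ∀ x : G, ∀ a : N, a ≠ 1 → a ∈ (disp N x).range → (disp N x).range = zpowers a :=
    fun x a ha hmem => by
      refine (eq_of_le_of_card_ge (zpowers_le.mpr hmem) ?_).symm
      rw [Nat.card_zpowers]
      have hd : orderOf a ∣ p := by
        rw [← Nat.card_zpowers]
        exact (card_dvd_of_le (zpowers_le.mpr hmem)).trans (hcard x)
      rw [((Nat.dvd_prime hp).mp hd).resolve_left fun h => ha (orderOf_eq_one_iff.mp h)]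
      exact Nat.le_of_dvd hp.pos (hcard x)
  rw [hcard' g _ ha ⟨_, rfl⟩, hcard' h _ ha hmem]

end Displacement

end Cfsg.Agent.ClassSq
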