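import Cfsg.Agent.ClassSq.Supersolvable
import Cfsg.Agent.PGroups.Breadth
import Mathlib.GroupTheory.Exponent
import Mathlib.GroupTheory.Commutator.Basic
import Mathlib.GroupTheory.Abelianization.Defs

/-!
# Square-free class sizes: the derived subgroup is cyclic of square-free order
-/

set_option autoImplicit false
set_option linter.style.haveILetI false

namespace Cfsg.Agent.ClassSq

open Subgroup
open scoped commutatorElement

universe u

theorem isCyclic_of_squarefree {A : Type u} [Group A] [Finite A] (hc : ∀ a b : A, a * b = b * a)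
    (hsq : Squarefree (Nat.card A)) : IsCyclic A := by
  letI : CommGroup A := { (inferInstance : Group A) with mul_comm := hc }
  refine IsCyclic.of_exponent_eq_card (Nat.dvd_antisymm (Group.exponent_dvd_nat_card) ?_)
  rw [← Nat.prod_primeFactors_of_squarefree hsq]
  refine Finset.prod_primes_dvd _ (fun q hq => (Nat.prime_of_mem_primeFactors hq).prime) fun q hq => ?_
  haveI := Fact.mk (Nat.prime_of_mem_primeFactors hq)
  obtain ⟨x, hx⟩ := exists_prime_orderOf_dvd_card' (G := A) q (Nat.dvd_of_mem_primeFactors hq)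
  exact hx ▸ Monoid.order_dvd_exponent x

theorem commutator_mem {G : Type u} [Group G] (g h : G) : ⁅g, h⁆ ∈ _root_.commutator G := by
  rw [_root_.commutator_def]; exact commutator_mem_commutator (mem_top g) (mem_top h)

theorem comm_of_mem {G : Type u} [Group G] {S : Set G} (hS : closure S = ⊤) {H : Type u} [Group H]
    (f : G →* H) (hc : ∀ a ∈ S, ∀ b ∈ S, f a * f b = f b * f a) (g h : G) :
    f g * f h = f h * f g := by
  have h1 : ∀ a ∈ S, ∀ x : G, f a * f x = f x * f a := fun a ha => by
    have : (⊤ : Subgroup G) ≤ (centralizer ({f a} : Set H)).comap f := by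
      rw [← hS, closure_le]
      intro b hb
      rw [SetLike.mem_coe, mem_comap, mem_cent]
      exact (hc a ha b hb).symm
    exact fun x => (mem_cent.mp (this (mem_top x))).symm
  have : (⊤ : Subgroup G) ≤ (centralizer ({f h} : Set H)).comap f := by
    rw [← hS, closure_le]
    intro b hb
    rw [SetLike.mem_coe, mem_comap, mem_cent]
    exact h1 b hb h
  exact mem_cent.mp (this (mem_top g))

variable {G : Type u} [Group G] [Finite G] {p : ℕ}

/-- A commutator with a `p'`-element is a translation of that element on the derived subgroup. -/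
theorem commutator_mem_range [IsMulCommutative (_root_.commutator G)]
    (hD : Nat.card (_root_.commutator G) = p ^ 2) (hp : p.Prime) {h : G}
    (hh : ¬ p ∣ orderOf h) (u : G) :
    (⟨⁅h, u⁆, commutator_mem h u⟩ : _root_.commutator G) ∈ (disp (_root_.commutator G) h).range := by
  set z : _root_.commutator G := ⟨⁅h, u⁆, commutator_mem h u⟩ with hz
  have key : ∀ k : ℕ, ∃ l ∈ (disp (_root_.commutator G) h).range,
      h ^ k * u * (h ^ k)⁻¹ = (l : G) * (z : G) ^ k * u := by
    intro k
    induction k with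
    | zero => exact ⟨1, one_mem _, by simp⟩
    | succ k ih =>
      obtain ⟨l, hl, e⟩ := ih
      refine ⟨disp _ h (l * z ^ k) * l, mul_mem ⟨_, rfl⟩ hl, ?_⟩
      calc h ^ (k + 1) * u * (h ^ (k + 1))⁻¹ = h * (h ^ k * u * (h ^ k)⁻¹) * h⁻¹ := by
            rw [pow_succ']; group
        _ = h * ((l : G) * (z : G) ^ k) * h⁻¹ * ((z : G) * u) := by
            rw [e, show (z : G) = h * u * h⁻¹ * u⁻¹ from (commutatorElement_def h u)]; group
        _ = (disp _ h (l * z ^ k) : G) * ((l : G) * (z : G) ^ k) * ((z : G) * u) := by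
            have hc := conj_eq_disp (_root_.commutator G) h (l * z ^ k)
            simp only [coe_mul, SubmonoidClass.coe_pow] at hc
            rw [hc]
        _ = _ := by rw [coe_mul, pow_succ]; group
  obtain ⟨l, hl, e⟩ := key (orderOf h)
  rw [pow_orderOf_eq_one, one_mul, inv_one, mul_one] at e
  have hzn : z ^ orderOf h ∈ (disp (_root_.commutator G) h).range := by
    have : l * z ^ orderOf h = 1 := Subtype.ext (by simpa using (right_eq_mul.mp e))
    rw [eq_inv_of_mul_eq_one_right this]
    exact inv_mem hl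
  have hco : (orderOf h).Coprime (orderOf z) := by
    refine Nat.Coprime.coprime_dvd_right (hD ▸ orderOf_dvd_natCard z) ?_
    exact Nat.Coprime.pow_right _ ((hp.coprime_iff_not_dvd.mpr hh).symm)
  obtain ⟨m, hm⟩ := exists_pow_eq_self_of_coprime hco
  exact hm ▸ pow_mem hzn m

theorem derived_not_prime_sq (hsq : ∀ x : G, Squarefree (cls x)) [IsMulCommutative (_root_.commutator G)]
    (hp : p.Prime) (hD : Nat.card (_root_.commutator G) = p ^ 2) : False := by
  classical
  haveI : Fact p.Prime := ⟨hp⟩
  have hDp : IsPGroup p (_root_.commutator G) := IsPGroup.of_card hD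
  obtain ⟨P, hDP⟩ := hDp.exists_le_sylow
  haveI hPn : (P : Subgroup G).Normal := ⟨fun x hx g => by
    have : g * x * g⁻¹ = ⁅g, x⁆ * x := by rw [commutatorElement_def]; group
    rw [this]; exact mul_mem (hDP (commutator_mem g x)) hx⟩
  -- Knoche
  have hidx : ∀ x : G, (centralizer ({x} : Set G)).relIndex (P : Subgroup G) ∣ p := fun x => by
    obtain ⟨k, hk⟩ := P.isPGroup'.index ((centralizer ({x} : Set G)).subgroupOf (P : Subgroup G))
    rw [relIndex, hk]
    have h := (hsq x).squarefree_of_dvd ((dvd_of_eq hk.symm).trans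
      (relIndex_dvd_index_normal (centralizer ({x} : Set G)) (P : Subgroup G)))
    rcases Nat.lt_or_ge k 2 with h2 | h2
    · exact (pow_dvd_pow p (by omega : k ≤ 1)).trans (dvd_of_eq (pow_one p))
    · exact absurd (Nat.isUnit_iff.mp (h p (by rw [← sq]; exact pow_dvd_pow p h2))) hp.ne_one
  let P' : Subgroup G := ⁅(P : Subgroup G), (P : Subgroup G)⁆
  have hP'card : Nat.card P' ≤ p := by
    have h := PGroups.card_commutator_le_of_breadth (p := p) _ (P : Subgroup G) le_rfl P.isPGroup' 1
      fun x => by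
        rw [pow_one]
        have e : centralizer ({x} : Set (P : Subgroup G))
            = (centralizer ({(x : G)} : Set G)).subgroupOf (P : Subgroup G) := by
          ext g; rw [mem_subgroupOf, mem_cent, mem_cent, Subtype.ext_iff, coe_mul, coe_mul]
        rw [e]
        exact Nat.le_of_dvd hp.pos (hidx x)
    rw [← card_map_of_injective (P : Subgroup G).subtype_injective, map_subtype_commutator] at h
    simpa using h
  -- displacements of `p'`-elements
  have hcard : ∀ x : G, Nat.card (disp (_root_.commutator G) x).range ∣ p := fun x =>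
    card_range_dvd_of_squarefree _ hp hDp (hsq x)
  let Sp : Set G := {h | ¬ p ∣ orderOf h}
  have hm : ∀ h ∈ Sp, ∃ m : ℕ, ¬ p ∣ m ∧ h ^ m ∈ centralizer (_root_.commutator G : Set G) :=
    fun h hh => ⟨_, hh, by rw [pow_orderOf_eq_one]; exact one_mem _⟩
  have hcommD : ∀ a b : G, ∀ n : _root_.commutator G,
      a * b * n * (a * b)⁻¹ = b * a * n * (b * a)⁻¹ := by
    intro a b n
    have hc : ((b * a)⁻¹ * (a * b)) * (n : G) = n * ((b * a)⁻¹ * (a * b)) := by
      have e : (b * a)⁻¹ * (a * b) = ⁅a⁻¹, b⁻¹⁆ := by rw [commutatorElement_def]; group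
      rw [e]
      exact congrArg Subtype.val (IsMulCommutative.is_comm.comm
        (⟨_, commutator_mem a⁻¹ b⁻¹⟩ : _root_.commutator G) n)
    calc a * b * (n : G) * (a * b)⁻¹
        = b * a * (((b * a)⁻¹ * (a * b)) * n) * (a * b)⁻¹ := by group
      _ = _ := by rw [hc]; group
  obtain ⟨R, hRcard, hR, hRsrc⟩ : ∃ R : Subgroup (_root_.commutator G), Nat.card R ∣ p ∧
      (∀ h ∈ Sp, (disp (_root_.commutator G) h).range ≤ R) ∧
      (R = ⊥ ∨ ∃ h ∈ Sp, (disp (_root_.commutator G) h).range = R) := by
    by_cases hex : ∃ h ∈ Sp, (disp (_root_.commutator G) h).ker ≠ ⊤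
    · obtain ⟨h0, hh0, hne⟩ := hex
      refine ⟨_, hcard h0, fun h hh => ?_, Or.inr ⟨h0, hh0, rfl⟩⟩
      by_cases ht : (disp (_root_.commutator G) h).ker = ⊤
      · rw [MonoidHom.range_eq_map, ← ht, map_ker_self]; exact bot_le
      · exact le_of_eq (range_eq_of_commute _ (hm h hh) (hm h0 hh0) hcard (hcommD h h0) ht hne)
    · push Not at hex
      refine ⟨⊥, by simp, fun h hh => ?_, Or.inl rfl⟩
      rw [MonoidHom.range_eq_map, ← hex h hh, map_ker_self]
  let RG : Subgroup G := R.map (_root_.commutator G).subtype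
  have hRGcard : Nat.card RG ∣ p := by
    rw [card_map_of_injective (_root_.commutator G).subtype_injective]; exact hRcard
  have hmemR : ∀ h ∈ Sp, ∀ u : G, ⁅h, u⁆ ∈ RG := fun h hh u =>
    ⟨_, hR h hh (commutator_mem_range hD hp hh u), rfl⟩
  haveI hRn : RG.Normal := by
    refine ⟨?_⟩
    rintro x ⟨r, hr, rfl⟩ g
    rcases hRsrc with hb | ⟨h, hh, he⟩
    · rw [hb, SetLike.mem_coe, mem_bot] at hr
      rw [hr, map_one, mul_one, mul_inv_cancel]; exact one_mem _
    · rw [SetLike.mem_coe, ← he] at hr
      obtain ⟨n, rfl⟩ := hr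
      have hconj : g * h * g⁻¹ ∈ Sp := by
        change ¬ p ∣ orderOf (g * h * g⁻¹)
        rw [← MulAut.conj_apply, (MulAut.conj g).orderOf_eq]; exact hh
      have e : g * (h * n * h⁻¹ * (n : G)⁻¹) * g⁻¹ = ⁅g * h * g⁻¹, g * (n : G) * g⁻¹⁆ := by
        rw [commutatorElement_def]; group
      rw [coe_subtype, coe_disp, e]
      exact hmemR _ hconj _
  -- the derived subgroup is contained in `P' R`
  haveI : P'.Normal := commutator_normal _ _
  have hgen : closure ((P : Set G) ∪ Sp) = ⊤ := by
    rw [eq_top_iff]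
    intro g _
    obtain ⟨a, b, hab⟩ : ∃ a b : ℕ, g = (g ^ (p ^ (orderOf g).factorization p)) ^ a *
        (g ^ (orderOf g / p ^ (orderOf g).factorization p)) ^ b := by
      have hco : (p ^ (orderOf g).factorization p).Coprime
          (orderOf g / p ^ (orderOf g).factorization p) :=
        Nat.Coprime.pow_left _ (hp.coprime_iff_not_dvd.mpr
          (Nat.not_dvd_ordCompl hp (orderOf_pos g).ne'))
      have hg : g ^ Nat.gcd (p ^ (orderOf g).factorization p)
          (orderOf g / p ^ (orderOf g).factorization p) = g := by rw [hco.gcd_eq_one, pow_one]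
      have hbez := Nat.gcd_eq_gcd_ab (p ^ (orderOf g).factorization p)
        (orderOf g / p ^ (orderOf g).factorization p)
      rw [hco.gcd_eq_one] at hbez
      have hn0 : (0 : ℤ) < orderOf g := by exact_mod_cast orderOf_pos g
      refine ⟨(Nat.gcdA (p ^ (orderOf g).factorization p)
          (orderOf g / p ^ (orderOf g).factorization p) % (orderOf g : ℤ)).toNat,
        (Nat.gcdB (p ^ (orderOf g).factorization p)
          (orderOf g / p ^ (orderOf g).factorization p) % (orderOf g : ℤ)).toNat, ?_⟩
      rw [← zpow_natCast (g ^ _), ← zpow_natCast (g ^ (orderOf g / _)),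
        Int.toNat_of_nonneg (Int.emod_nonneg _ hn0.ne'), Int.toNat_of_nonneg (Int.emod_nonneg _ hn0.ne'),
        ← zpow_natCast g, ← zpow_natCast g, ← zpow_mul, ← zpow_mul, ← zpow_add]
      conv_lhs => rw [← zpow_one g]
      rw [zpow_eq_zpow_iff_modEq]
      calc (1 : ℤ) = _ := by exact_mod_cast hbez
        _ ≡ _ [ZMOD (orderOf g : ℤ)] := by
          exact ((Int.mod_modEq _ _).symm.mul_left _).add ((Int.mod_modEq _ _).symm.mul_left _)
    rw [hab]
    refine mul_mem (pow_mem (Subgroup.subset_closure (Set.mem_union_right _ ?_)) a) (pow_mem (Subgroup.subset_closure (Set.mem_union_left _ ?_)) b)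
    · intro hd
      rw [orderOf_pow' g (pow_ne_zero _ hp.ne_zero)] at hd
      rw [Nat.gcd_eq_right (Nat.ordProj_dvd _ _)] at hd
      exact Nat.not_dvd_ordCompl hp (orderOf_pos g).ne' hd
    · have : IsPGroup p (zpowers (g ^ (orderOf g / p ^ (orderOf g).factorization p))) := by
        refine IsPGroup.of_card (n := (orderOf g).factorization p) ?_
        rw [Nat.card_zpowers, orderOf_pow_orderOf_div (orderOf_pos g).ne' (Nat.ordProj_dvd _ _)]
      obtain ⟨Q, hQ⟩ := this.exists_le_sylow
      haveI := Sylow.unique_of_normal P hPn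
      rw [Subsingleton.elim Q P] at hQ
      exact hQ (mem_zpowers _)
  have hDK : _root_.commutator G ≤ P' ⊔ RG := by
    have hc := comm_of_mem hgen (QuotientGroup.mk' (P' ⊔ RG)) (by
      have hf : ∀ x ∈ P' ⊔ RG, (QuotientGroup.mk' (P' ⊔ RG)) x = 1 := fun x hx =>
        (QuotientGroup.eq_one_iff x).mpr hx
      have hPh : ∀ h ∈ Sp, ∀ u : G, (⁅h, u⁆ ∈ RG) := hmemR
      intro a ha b hb
      rw [← commutatorElement_eq_one_iff_mul_comm, ← map_commutatorElement]
      apply hf
      rcases ha with ha | ha <;> rcases hb with hb | hb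
      · exact mem_sup_left (commutator_mem_commutator ha hb)
      · rw [← commutatorElement_inv]
        exact inv_mem (mem_sup_right (hPh b hb a))
      · exact mem_sup_right (hPh a ha b)
      · exact mem_sup_right (hPh a ha b))
    rw [_root_.commutator_def, commutator_le]
    intro a _ b _
    rw [← QuotientGroup.eq_one_iff (N := P' ⊔ RG)]
    have := hc a b
    rw [← QuotientGroup.mk'_apply, map_commutatorElement, commutatorElement_eq_one_iff_mul_comm]
    exact this
  have hP'D : P' ≤ _root_.commutator G := by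
    rw [_root_.commutator_def]; exact commutator_mono le_top le_top
  have hRD : RG ≤ _root_.commutator G := map_subtype_le _
  have hDge : Nat.card (_root_.commutator G) ∣ Nat.card P' * Nat.card RG := by
    have h : Nat.card (P' ⊔ RG : Subgroup G) ∣ Nat.card P' * Nat.card RG := by
      have h2 : Nat.card (P' ⊔ RG : Subgroup G) = Nat.card RG * RG.relIndex (P' ⊔ RG) := by
        rw [relIndex, ← card_mul_index (RG.subgroupOf (P' ⊔ RG)),
          Nat.card_congr (subgroupOfEquivOfLe (le_sup_right : RG ≤ P' ⊔ RG)).toEquiv]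
      rw [h2, relIndex_sup_right, mul_comm (Nat.card P')]
      exact mul_dvd_mul_left _ (relIndex_dvd_card _ _)
    exact (card_dvd_of_le hDK).trans h
  rw [hD] at hDge
  have hp2 : p ^ 2 ≤ Nat.card P' * Nat.card RG :=
    Nat.le_of_dvd (Nat.mul_pos Nat.card_pos Nat.card_pos) hDge
  have hRle := Nat.le_of_dvd hp.pos hRGcard
  have hRp : Nat.card RG = p := by nlinarith
  have hP'p : Nat.card P' = p := by nlinarith
  have hdisj : P' ⊓ RG = ⊥ := by
    by_contra hne
    have e1 : P' ⊓ RG = P' := by
      refine eq_of_le_of_card_ge inf_le_left ?_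
      rw [hP'p]
      exact Nat.le_of_eq (((Nat.dvd_prime hp).mp (hP'p ▸ card_dvd_of_le inf_le_left)).resolve_left
        fun h => hne (eq_bot_of_card_eq _ h)).symm
    have e2 : P' = RG := eq_of_le_of_card_ge (inf_eq_left.mp e1) (by rw [hRp, hP'p])
    rw [← e2, sup_idem] at hDK
    have := card_le_of_le hDK
    rw [hD, hP'p] at this
    nlinarith [hp.two_le]
  -- an element of order prime to `p` moving `P`
  obtain ⟨h0, hh0, hh0R⟩ : ∃ h ∈ Sp, (disp (_root_.commutator G) h).range = R := by
    refine hRsrc.resolve_left fun hb => ?_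
    simp only [RG, hb, Subgroup.map_bot, Subgroup.card_bot] at hRp
    exact hp.ne_one hRp.symm
  obtain ⟨a, ha, hah⟩ : ∃ a ∈ (P : Subgroup G), h0 * a ≠ a * h0 := by
    by_contra hno
    push Not at hno
    have hb : R = ⊥ := by
      rw [← hh0R, eq_bot_iff]
      rintro _ ⟨n, rfl⟩
      rw [mem_bot, disp_eq_one_iff]
      exact hno n (hDP n.2)
    simp only [RG, hb, Subgroup.map_bot, Subgroup.card_bot] at hRp
    exact hp.ne_one hRp.symm
  obtain ⟨b, hb, b', hb', hbb⟩ : ∃ b ∈ (P : Subgroup G), ∃ b' ∈ (P : Subgroup G), b * b' ≠ b' * b := by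
    by_contra hno
    push Not at hno
    have hb : P' = ⊥ := commutator_eq_bot_iff_le_centralizer.mpr fun x hx =>
      mem_centralizer_iff.mpr fun y hy => hno y hy x hx
    rw [hb, card_bot] at hP'p
    exact hp.ne_one hP'p.symm
  obtain ⟨c, hc, hch, d, hd, hcd⟩ : ∃ c ∈ (P : Subgroup G), h0 * c ≠ c * h0 ∧
      ∃ d ∈ (P : Subgroup G), c * d ≠ d * c := by
    by_cases h1 : ∃ d ∈ (P : Subgroup G), a * d ≠ d * a
    · exact ⟨a, ha, hah, h1⟩
    push Not at h1
    by_cases h2 : h0 * b = b * h0
    · refine ⟨a * b, mul_mem ha hb, fun e => hah ?_, b', hb', fun e => hbb ?_⟩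
      · apply mul_right_cancel (b := b)
        calc h0 * a * b = h0 * (a * b) := mul_assoc _ _ _
          _ = a * (b * h0) := by rw [e, mul_assoc]
          _ = a * h0 * b := by rw [← h2, mul_assoc]
      · apply mul_left_cancel (a := a)
        calc a * (b * b') = a * b * b' := (mul_assoc _ _ _).symm
          _ = b' * a * b := by rw [e, mul_assoc]
          _ = a * (b' * b) := by rw [← h1 b' hb', mul_assoc]
    · exact ⟨b, hb, h2, b', hb', hbb⟩
  -- an element fixing `h0 * c` fixes both
  have hsplit : ∀ u ∈ (P : Subgroup G), u * (h0 * c) = h0 * c * u →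
      u * h0 = h0 * u ∧ u * c = c * u := by
    intro u hu e
    have hs : ⁅u, c⁆ ∈ P' := commutator_mem_commutator hu hc
    have hr : ⁅u, h0⁆ ∈ RG := by
      rw [← commutatorElement_inv]; exact inv_mem (hmemR h0 hh0 u)
    have hfix : h0 * ⁅u, c⁆ * h0⁻¹ = ⁅u, c⁆ := by
      have h1 : ⁅h0, ⁅u, c⁆⁆ ∈ P' ⊓ RG := by
        refine mem_inf.mpr ⟨?_, hmemR h0 hh0 _⟩
        rw [commutatorElement_def]
        exact mul_mem (Normal.conj_mem ‹P'.Normal› _ hs h0) (inv_mem hs)
      rw [hdisj, mem_bot, commutatorElement_eq_one_iff_mul_comm] at h1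
      rw [h1, mul_inv_cancel_right]
    have hprod : ⁅u, h0⁆ * ⁅u, c⁆ = 1 := by
      calc ⁅u, h0⁆ * ⁅u, c⁆ = ⁅u, h0⁆ * (h0 * ⁅u, c⁆ * h0⁻¹) := by rw [hfix]
        _ = u * (h0 * c) * u⁻¹ * (h0 * c)⁻¹ := by simp only [commutatorElement_def]; group
        _ = 1 := by rw [e]; group
    have h3 : ⁅u, h0⁆ ∈ P' ⊓ RG :=
      mem_inf.mpr ⟨by rw [eq_inv_of_mul_eq_one_left hprod]; exact inv_mem hs, hr⟩
    rw [hdisj, mem_bot] at h3
    rw [h3, one_mul] at hprod
    exact ⟨commutatorElement_eq_one_iff_mul_comm.mp h3, commutatorElement_eq_one_iff_mul_comm.mp hprod⟩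
  let C : G → Subgroup (P : Subgroup G) := fun x =>
    (centralizer ({x} : Set G)).subgroupOf (P : Subgroup G)
  have hsub : ∀ x, (∃ u ∈ (P : Subgroup G), u * x ≠ x * u) → C (h0 * c) ≤ C x → C (h0 * c) = C x := by
    rintro x ⟨u, hu, hux⟩ hle
    have h1 : (C x).index = p := ((Nat.dvd_prime hp).mp (hidx x)).resolve_left fun h => hux (by
      have hm : (⟨u, hu⟩ : (P : Subgroup G)) ∈ C x := by
        rw [show C x = ⊤ from index_eq_one.mp h]; exact mem_top _
      exact mem_cent.mp hm)
    have h := relIndex_mul_index hle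
    rw [h1] at h
    have h2 : (C (h0 * c)).relIndex (C x) * p ≤ 1 * p := by
      rw [h, one_mul]; exact Nat.le_of_dvd hp.pos (hidx _)
    have h3 : (C (h0 * c)).relIndex (C x) = 1 := le_antisymm (Nat.le_of_mul_le_mul_right h2 hp.pos)
      (Nat.pos_of_ne_zero index_ne_zero_of_finite)
    exact le_antisymm hle (relIndex_eq_one.mp h3)
  have hle1 : C (h0 * c) ≤ C h0 := fun u hu => mem_cent.mpr (hsplit _ u.2 (mem_cent.mp hu)).1
  have hle2 : C (h0 * c) ≤ C c := fun u hu => mem_cent.mpr (hsplit _ u.2 (mem_cent.mp hu)).2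
  have heq : C h0 = C c :=
    (hsub h0 ⟨c, hc, hch.symm⟩ hle1).symm.trans (hsub c ⟨d, hd, hcd.symm⟩ hle2)
  have : (⟨c, hc⟩ : (P : Subgroup G)) ∈ C h0 := heq ▸ mem_cent.mpr rfl
  exact hch (mem_cent.mp this).symm

theorem derived_cyclic_aux : ∀ (n : ℕ) (G : Type u) [Group G] [Finite G], Nat.card G ≤ n →
    Cfsg.IsSupersolvable G → (∀ x : G, Squarefree (cls x)) →
    IsCyclic (_root_.commutator G) ∧ Squarefree (Nat.card (_root_.commutator G))
  | 0, G, _, _, hn, _, _ => absurd Nat.card_pos (not_lt.mpr hn)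
  | n + 1, G, _, _, hn, hss, hsq => by
    by_cases hD : _root_.commutator G = ⊥
    · rw [hD]
      exact ⟨inferInstance, by rw [card_bot]; exact squarefree_one⟩
    have quot : ∀ (K : Subgroup G) [K.Normal], K ≠ ⊥ → K ≤ _root_.commutator G →
        IsCyclic ((_root_.commutator G).map (QuotientGroup.mk' K)) ∧
        Squarefree (Nat.card ((_root_.commutator G).map (QuotientGroup.mk' K))) ∧
        Nat.card K * Nat.card ((_root_.commutator G).map (QuotientGroup.mk' K))
          = Nat.card (_root_.commutator G) := by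
      intro K _ hK hKD
      have hmap : (_root_.commutator G).map (QuotientGroup.mk' K) = _root_.commutator (G ⧸ K) := by
        rw [_root_.commutator_def, _root_.commutator_def, map_commutator,
          map_top_of_surjective _ (QuotientGroup.mk'_surjective K)]
      have hlt := H30.card_quotient_lt K hK
      obtain ⟨h1, h2⟩ := derived_cyclic_aux n (G ⧸ K) (by omega) (H30.isSupersolvable_quotient hss K)
        fun x => by
          obtain ⟨y, rfl⟩ := QuotientGroup.mk'_surjective K x
          exact (hsq y).squarefree_of_dvd (cls_map_dvd _ (QuotientGroup.mk'_surjective K) y)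
      refine ⟨hmap ▸ h1, hmap ▸ h2, ?_⟩
      have := card_mul_index ((QuotientGroup.mk' K).comp (_root_.commutator G).subtype).ker
      rw [index_ker, MonoidHom.range_comp, range_subtype, ← MonoidHom.comap_ker,
        QuotientGroup.ker_mk'] at this
      rwa [show K.comap (_root_.commutator G).subtype = K.subgroupOf (_root_.commutator G) from rfl,
        Nat.card_congr (subgroupOfEquivOfLe hKD).toEquiv] at this
    obtain ⟨N, hNn, hND, hNp⟩ := H30.exists_normal_prime_le hss (_root_.commutator G) hD
    obtain ⟨hqc, hqs, hqcard⟩ := quot N (H30.ne_bot_of_prime_card hNp) hND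
    -- `N` is central in the derived subgroup, which is therefore abelian
    haveI : IsCyclic N := H30.isCyclic_of_prime_card' hNp
    have hNC : _root_.commutator G ≤ centralizer (N : Set G) := by
      rw [_root_.commutator_def, commutator_le]
      intro a _ b _
      rw [mem_centralizer_iff]
      intro m hm
      obtain ⟨g, hg⟩ := IsCyclic.exists_generator (α := N)
      have hpw : ∀ (x : G), ∃ k : ℤ, ∀ y : N, x * y * x⁻¹ = ((y : G)) ^ k := by
        intro x
        obtain ⟨k, hk⟩ := mem_zpowers_iff.mp (hg ⟨x * g * x⁻¹, hNn.conj_mem _ g.2 x⟩)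
        refine ⟨k, fun y => ?_⟩
        obtain ⟨j, rfl⟩ := mem_zpowers_iff.mp (hg y)
        rw [SubgroupClass.coe_zpow, ← conj_zpow, ← zpow_mul, mul_comm j k, zpow_mul]
        congr 1
        rw [← SubgroupClass.coe_zpow, hk]
      obtain ⟨k, hk⟩ := hpw a
      obtain ⟨l, hl⟩ := hpw b
      obtain ⟨x, hx⟩ : ∃ x : N, (x : G) = (b * a)⁻¹ * m * (b * a) :=
        ⟨⟨_, by simpa using hNn.conj_mem m hm (b * a)⁻¹⟩, rfl⟩
      have e2 : ⁅a, b⁆ * m * ⁅a, b⁆⁻¹ = m := by
        have q1 : a * b * (x : G) * (a * b)⁻¹ = b * a * (x : G) * (b * a)⁻¹ := by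
          calc a * b * (x : G) * (a * b)⁻¹ = a * (b * x * b⁻¹) * a⁻¹ := by group
            _ = a * (x : G) ^ l * a⁻¹ := by rw [hl x]
            _ = (a * x * a⁻¹) ^ l := conj_zpow.symm
            _ = ((x : G) ^ l) ^ k := by rw [hk x, ← zpow_mul, ← zpow_mul, mul_comm]
            _ = (b * x * b⁻¹) ^ k := by rw [hl x]
            _ = b * (x : G) ^ k * b⁻¹ := conj_zpow
            _ = b * (a * x * a⁻¹) * b⁻¹ := by rw [hk x]
            _ = _ := by group
        calc ⁅a, b⁆ * m * ⁅a, b⁆⁻¹ = a * b * ((b * a)⁻¹ * m * (b * a)) * (a * b)⁻¹ := by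
              rw [commutatorElement_def]; group
          _ = _ := by rw [← hx, q1, hx]; group
      exact (mul_inv_eq_iff_eq_mul.mp e2).symm
    haveI := hqc
    haveI hab : IsMulCommutative (_root_.commutator G) := by
      refine MonoidHom.isMulCommutative_of_isCyclic_of_ker_le_center
        ((QuotientGroup.mk' N).subgroupMap (_root_.commutator G)) ?_
      intro x hx
      rw [MonoidHom.mem_ker, Subtype.ext_iff] at hx
      have hxN : (x : G) ∈ N := (QuotientGroup.eq_one_iff _).mp hx
      exact mem_center_iff.mpr fun y => Subtype.ext (mem_centralizer_iff.mp (hNC y.2) _ hxN).symm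
    have hsqf : Squarefree (Nat.card (_root_.commutator G)) := by
      set p := Nat.card N with hpdef
      rw [← hqcard]
      refine Nat.squarefree_mul_iff.mpr ⟨hNp.coprime_iff_not_dvd.mpr fun hdvd => ?_, hNp.squarefree, hqs⟩
      haveI : Fact p.Prime := ⟨hNp⟩
      have hp2 : p ^ 2 ∣ Nat.card (_root_.commutator G) := by
        rw [← hqcard, sq]; exact mul_dvd_mul_left _ hdvd
      -- no other prime divides the derived order
      have hpow : ∀ r : ℕ, r.Prime → r ∣ Nat.card (_root_.commutator G) → r = p := by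
        intro r hr hrd
        by_contra hne
        haveI : Fact r.Prime := ⟨hr⟩
        obtain ⟨x, hx⟩ := exists_prime_orderOf_dvd_card' (G := _root_.commutator G) r hrd
        have hcD : ∀ a ∈ _root_.commutator G, ∀ b ∈ _root_.commutator G, Commute a b := fun a ha b hb =>
          congrArg Subtype.val (IsMulCommutative.is_comm.comm (⟨a, ha⟩ : _root_.commutator G) ⟨b, hb⟩)
        let R : Subgroup G :=
          { carrier := {y | y ∈ _root_.commutator G ∧ y ^ r = 1}
            one_mem' := ⟨one_mem _, one_pow _⟩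
            mul_mem' := fun ⟨ha, ha'⟩ ⟨hb, hb'⟩ => ⟨mul_mem ha hb, by
              rw [(hcD _ ha _ hb).mul_pow, ha', hb', mul_one]⟩
            inv_mem' := fun ⟨ha, ha'⟩ => ⟨inv_mem ha, by rw [inv_pow, ha', inv_one]⟩ }
        haveI : R.Normal := ⟨fun y hy g => ⟨Normal.conj_mem inferInstance _ hy.1 g, by
          rw [conj_pow, hy.2, mul_one, mul_inv_cancel]⟩⟩
        have hRp : IsPGroup r R := fun y => ⟨1, Subtype.ext (by rw [pow_one]; exact y.2.2)⟩
        have hRne : R ≠ ⊥ := fun h => by
          have : (x : G) ∈ R := ⟨x.2, by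
            rw [← SubmonoidClass.coe_pow, ← hx, pow_orderOf_eq_one, coe_one]⟩
          rw [h, mem_bot, OneMemClass.coe_eq_one] at this
          rw [this, orderOf_one] at hx
          exact hr.ne_one hx.symm
        obtain ⟨-, hs, hc⟩ := quot R hRne (fun y hy => hy.1)
        obtain ⟨k, hk⟩ := IsPGroup.iff_card.mp hRp
        have : p ^ 2 ∣ Nat.card ((_root_.commutator G).map (QuotientGroup.mk' R)) := by
          refine Nat.Coprime.dvd_of_dvd_mul_left ?_ (hc.symm ▸ hp2)
          rw [hk]
          exact Nat.Coprime.pow _ _ ((Nat.coprime_primes hNp hr).mpr fun h => hne h.symm)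
        exact hNp.ne_one (Nat.isUnit_iff.mp (hs p (by rwa [← sq])))
      have hcard2 : Nat.card (_root_.commutator G) = p ^ 2 := by
        rw [← hqcard]
        have h1 : Nat.card ((_root_.commutator G).map (QuotientGroup.mk' N)) = p := by
          rw [← Nat.prod_primeFactors_of_squarefree hqs]
          have : (Nat.card ((_root_.commutator G).map (QuotientGroup.mk' N))).primeFactors = {p} := by
            ext r
            rw [Finset.mem_singleton, Nat.mem_primeFactors]
            refine ⟨fun ⟨hr, hrd, _⟩ => hpow r hr (hqcard ▸ dvd_mul_of_dvd_right hrd _), ?_⟩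
            rintro rfl
            exact ⟨hNp, hdvd, Nat.card_pos.ne'⟩
          rw [this, Finset.prod_singleton]
        rw [h1, sq]
      exact derived_not_prime_sq hsq hNp hcard2
    exact ⟨isCyclic_of_squarefree (fun a b => IsMulCommutative.is_comm.comm a b) hsqf, hsqf⟩

theorem derived_cyclic {G : Type u} [Group G] [Finite G] (hss : Cfsg.IsSupersolvable G)
    (hsq : ∀ x : G, Squarefree (cls x)) :
    IsCyclic (_root_.commutator G) ∧ Squarefree (Nat.card (_root_.commutator G)) :=
  derived_cyclic_aux _ G le_rfl hss hsq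

end Cfsg.Agent.ClassSq
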