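import Cfsg.Agent.ClassSq.Derived
import Cfsg.Agent.Cores.Fitting
import Mathlib.GroupTheory.Nilpotent

/-!
# Square-free class sizes: the Fitting subgroup is the centralizer of the derived subgroup
-/

set_option autoImplicit false
set_option linter.style.haveILetI false

namespace Cfsg.Agent.ClassSq

open Subgroup
open scoped commutatorElement

universe u

variable {G : Type u} [Group G]

/-- A normal subgroup of prime order is centralised by every nilpotent normal subgroup. -/
theorem le_centralizer_of_prime (F N : Subgroup G) [F.Normal] [N.Normal] [Finite G]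
    (hF : Group.IsNilpotent F) (hN : (Nat.card N).Prime) : F ≤ centralizer (N : Set G) := by
  have hcases : ∀ K : Subgroup G, K ≤ N → K = ⊥ ∨ K = N := fun K hK => by
    rcases (Nat.dvd_prime hN).mp (card_dvd_of_le hK) with h | h
    · exact Or.inl (eq_bot_of_card_eq K h)
    · exact Or.inr (eq_of_le_of_card_ge hK (le_of_eq h.symm))
  rcases hcases ⁅F, N⁆ (commutator_le_right _ _) with h | h
  · exact commutator_eq_bot_iff_le_centralizer.mp h
  have hNF : N ≤ F := h ▸ commutator_le_left _ _
  obtain ⟨n, hn⟩ := (Subgroup.isNilpotent_iff_lowerCentralSeries F).mp hF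
  exfalso
  have key : ∀ k, N ≤ F.lowerCentralSeries k := by
    intro k
    induction k with
    | zero => exact hNF
    | succ k ih =>
      rw [Subgroup.lowerCentralSeries_succ, commutator_comm]
      exact (le_of_eq h.symm).trans (commutator_mono le_rfl ih)
  have := key n
  rw [hn, le_bot_iff] at this
  rw [this, card_bot] at hN
  exact Nat.not_prime_one hN

theorem fitting_structure [Finite G] (hss : Cfsg.IsSupersolvable G)
    (hsq : ∀ x : G, Squarefree (cls x)) :
    (Cfsg.fittingSubgroup G).Normal ∧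
    (∀ _h : (Cfsg.fittingSubgroup G).Normal, IsCyclic (G ⧸ Cfsg.fittingSubgroup G) ∧
      Squarefree (Cfsg.fittingSubgroup G).index) ∧
    Subgroup.upperCentralSeries ↥(Cfsg.fittingSubgroup G) 2 = ⊤ := by
  classical
  obtain ⟨hcyc, hsqf⟩ := derived_cyclic hss hsq
  haveI := hcyc
  set D := _root_.commutator G with hDdef
  let H : Subgroup G := centralizer (D : Set G)
  have hDab : ∀ a ∈ D, ∀ b ∈ D, a * b = b * a := fun a ha b hb => by
    obtain ⟨g, hg⟩ := IsCyclic.exists_generator (α := D)
    obtain ⟨i, hi⟩ := mem_zpowers_iff.mp (hg ⟨a, ha⟩)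
    obtain ⟨j, hj⟩ := mem_zpowers_iff.mp (hg ⟨b, hb⟩)
    have hc : (⟨a, ha⟩ : D) * ⟨b, hb⟩ = ⟨b, hb⟩ * ⟨a, ha⟩ := by rw [← hi, ← hj, ← zpow_add, ← zpow_add, add_comm]
    exact congrArg Subtype.val hc
  have hHc : ∀ a b : H, ⁅a, b⁆ ∈ center H := fun a b => by
    rw [mem_center_iff]
    intro c
    exact Subtype.ext (mem_centralizer_iff.mp c.2 _ (commutator_mem (a : G) b)).symm
  have hH2 : Subgroup.upperCentralSeries H 2 = ⊤ := by
    rw [eq_top_iff]
    intro x _
    rw [Subgroup.mem_upperCentralSeries_succ_iff]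
    intro y
    rw [Subgroup.upperCentralSeries_one]
    exact hHc x y
  have hHnil : Group.IsNilpotent H := ⟨⟨2, hH2⟩⟩
  have hF : Cfsg.fittingSubgroup G = H := by
    refine le_antisymm ?_ (le_sSup ⟨inferInstance, hHnil⟩)
    refine sSup_le fun N ⟨hN, hNnil⟩ => ?_
    haveI := hN
    -- `N` centralises every subgroup of prime order of `D`
    have hK : D ≤ D ⊓ centralizer (N : Set G) := by
      refine le_of_eq (eq_of_le_of_card_ge inf_le_left ?_).symm
      refine Nat.le_of_dvd Nat.card_pos ?_
      conv_lhs => rw [← Nat.prod_primeFactors_of_squarefree hsqf]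
      refine Finset.prod_primes_dvd _ (fun q hq => (Nat.prime_of_mem_primeFactors hq).prime)
        fun q hq => ?_
      haveI := Fact.mk (Nat.prime_of_mem_primeFactors hq)
      obtain ⟨x, hx⟩ := exists_prime_orderOf_dvd_card' (G := D) q (Nat.dvd_of_mem_primeFactors hq)
      obtain ⟨g, hg⟩ := IsCyclic.exists_generator (α := D)
      haveI : (zpowers (x : G)).Normal := by
        refine ⟨fun y hy t => ?_⟩
        obtain ⟨j, rfl⟩ := mem_zpowers_iff.mp hy
        have hgen : ∃ m : ℤ, t * (g : G) * t⁻¹ = (g : G) ^ m := by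
          obtain ⟨m, hm⟩ := mem_zpowers_iff.mp
            (hg ⟨t * g * t⁻¹, Normal.conj_mem inferInstance _ g.2 t⟩)
          exact ⟨m, (congrArg Subtype.val hm).symm⟩
        obtain ⟨m, hm⟩ := hgen
        obtain ⟨i, hi⟩ := mem_zpowers_iff.mp (hg x)
        have hxi : (x : G) = (g : G) ^ i := by rw [← hi, SubgroupClass.coe_zpow]
        refine ⟨m * j, ?_⟩
        change (x : G) ^ (m * j) = t * (x : G) ^ j * t⁻¹
        rw [hxi, ← zpow_mul, ← zpow_mul, ← conj_zpow, hm, ← zpow_mul]
        congr 1; ring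
      have hc : N ≤ centralizer ((zpowers (x : G)) : Set G) := le_centralizer_of_prime N _ hNnil (by
        rw [Nat.card_zpowers, Subgroup.orderOf_coe, hx]; exact Fact.out)
      have hxK : (x : G) ∈ D ⊓ centralizer (N : Set G) :=
        ⟨x.2, le_centralizer_iff.mp hc (mem_zpowers _)⟩
      have h := orderOf_dvd_natCard (⟨(x : G), hxK⟩ : ↥(D ⊓ centralizer (N : Set G)))
      rwa [Subgroup.orderOf_mk, Subgroup.orderOf_coe, hx] at h
    exact le_centralizer_iff.mp (le_inf_iff.mp hK).2
  obtain ⟨g, hg⟩ := IsCyclic.exists_generator (α := D)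
  have hHg : H = centralizer ({(g : G)} : Set G) := by
    refine le_antisymm (centralizer_le (by simp)) ?_
    intro t ht
    rw [mem_centralizer_iff]
    intro a ha
    obtain ⟨i, hi⟩ := mem_zpowers_iff.mp (hg ⟨a, ha⟩)
    rw [show a = (g : G) ^ i by rw [← SubgroupClass.coe_zpow, hi]]
    have : Commute t (g : G) := mem_cent.mp ht
    exact (this.zpow_right i).eq.symm
  have hidx : Squarefree (Cfsg.fittingSubgroup G).index := by
    rw [hF, hHg]; exact hsq g
  refine ⟨hF ▸ inferInstance, fun hn => ⟨?_, hidx⟩, hF ▸ hH2⟩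
  haveI := hn
  refine isCyclic_of_squarefree (fun a b => ?_) (by rw [← index_eq_card]; exact hidx)
  obtain ⟨a, rfl⟩ := QuotientGroup.mk'_surjective (Cfsg.fittingSubgroup G) a
  obtain ⟨b, rfl⟩ := QuotientGroup.mk'_surjective (Cfsg.fittingSubgroup G) b
  rw [← commutatorElement_eq_one_iff_mul_comm, ← map_commutatorElement, QuotientGroup.mk'_apply,
    QuotientGroup.eq_one_iff, hF]
  exact mem_centralizer_iff.mpr fun c hc => hDab c hc _ (commutator_mem a b)

end Cfsg.Agent.ClassSq
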