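import Cfsg.Agent.ClassSq.Basic
import Cfsg.Agent.H25.InvolutionTransfer
import Cfsg.Agent.H75.Cover
import Mathlib.GroupTheory.Solvable
import Mathlib.GroupTheory.Subgroup.Simple

/-!
# No class size divisible by 4: solvable, given the solvability of groups of odd order
-/

set_option autoImplicit false
set_option linter.style.haveILetI false

namespace Cfsg.Agent.ClassSq

open Subgroup

universe u

theorem centralizer_eq_top_of_simple {G : Type u} [Group G] [Finite G] [IsSimpleGroup G]
    (hcard : Nat.card G ≠ 2) (h4 : ∀ x : G, ¬ 4 ∣ cls x) (z : G) (hz : orderOf z = 2) :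
    centralizer ({z} : Set G) = ⊤ := by
  haveI : Fact (Nat.Prime 2) := ⟨Nat.prime_two⟩
  have hzp : IsPGroup 2 (zpowers z) := IsPGroup.of_card (n := 1) (by rw [Nat.card_zpowers, hz, pow_one])
  obtain ⟨S, hS⟩ := hzp.exists_le_sylow
  have hzS : z ∈ (S : Subgroup G) := hS (mem_zpowers z)
  refine H75.eq_top_of_conj_cover _ fun x => ?_
  obtain ⟨T⟩ := (inferInstance : Nonempty (Sylow 2 (centralizer ({x} : Set G))))
  have hT : IsPGroup 2 ((T : Subgroup _).map (centralizer ({x} : Set G)).subtype) := T.isPGroup'.map _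
  obtain ⟨R, hR⟩ := hT.exists_le_sylow
  obtain ⟨a, ha⟩ := MulAction.exists_smul_eq G R S
  let Q : Subgroup G := ((T : Subgroup _).map (centralizer ({x} : Set G)).subtype).map
    (MulAut.conj a).toMonoidHom
  have hQS : Q ≤ (S : Subgroup G) := by
    rw [← ha, Sylow.coe_subgroup_smul]
    exact map_mono hR
  have hQC : ∀ q ∈ Q, q * (a * x * a⁻¹) = (a * x * a⁻¹) * q := by
    rintro q ⟨t, ⟨⟨t', ht'⟩, -, rfl⟩, rfl⟩
    simp only [MulEquiv.coe_toMonoidHom, MulAut.conj_apply, coe_subtype]
    have h := mem_cent.mp ht'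
    calc a * t' * a⁻¹ * (a * x * a⁻¹) = a * (t' * x) * a⁻¹ := by group
      _ = _ := by rw [h]; group
  have hQcard : Nat.card Q = 2 ^ (Nat.card (centralizer ({x} : Set G))).factorization 2 := by
    rw [Nat.card_congr (equivMapOfInjective _ (MulAut.conj a).toMonoidHom
        (MulAut.conj a).injective).toEquiv.symm,
      Nat.card_congr (equivMapOfInjective (T : Subgroup _) _
        (centralizer ({x} : Set G)).subtype_injective).toEquiv.symm]
    exact T.card_eq_multiplicity
  -- the Sylow order of the centraliser misses at most one factor 2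
  have hle : (Nat.card G).factorization 2 ≤ (Nat.card (centralizer ({x} : Set G))).factorization 2 + 1 := by
    rw [← card_mul_index (centralizer ({x} : Set G)), Nat.factorization_mul Nat.card_pos.ne'
      index_ne_zero_of_finite, Finsupp.add_apply]
    by_contra hc
    have h2 : 2 ≤ (cls x).factorization 2 := by simp only [cls]; omega
    exact h4 x ((pow_dvd_pow 2 h2).trans (Nat.ordProj_dvd _ 2))
  have hge := Nat.le_of_dvd (Nat.card_pos) (card_dvd_of_le hQS)
  rw [hQcard, S.card_eq_multiplicity] at hge
  have hge' := (Nat.pow_le_pow_iff_right (by norm_num)).mp hge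
  obtain ⟨g, hg⟩ : ∃ g : G, g * z * g⁻¹ ∈ Q := by
    rcases Nat.eq_or_lt_of_le hge' with he | hlt
    · refine ⟨1, ?_⟩
      rw [eq_of_le_of_card_ge hQS (by rw [hQcard, S.card_eq_multiplicity, he])]
      simpa using hzS
    · by_cases hzQ : z ∈ Q
      · exact ⟨1, by simpa using hzQ⟩
      have hidx : Q.relIndex (S : Subgroup G) = 2 := by
        have h := card_mul_index (Q.subgroupOf (S : Subgroup G))
        rw [Nat.card_congr (subgroupOfEquivOfLe hQS).toEquiv, hQcard, S.card_eq_multiplicity] at h
        rw [relIndex]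
        have : (Nat.card G).factorization 2
            = (Nat.card (centralizer ({x} : Set G))).factorization 2 + 1 := by omega
        rw [this, pow_succ] at h
        exact Nat.eq_of_mul_eq_mul_left (by positivity) h
      rcases H25.thompson_transfer S Q hQS hidx z hz hzS hzQ with ⟨M, hMn, hMi, -⟩ | h
      · rcases IsSimpleGroup.eq_bot_or_eq_top_of_normal M hMn with rfl | rfl
        · rw [index_bot] at hMi; exact absurd hMi hcard
        · rw [index_top] at hMi; omega
      · exact h
  refine ⟨g⁻¹ * a, ?_⟩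
  have h := hQC _ hg
  rw [mem_cent]
  calc g⁻¹ * a * x * (g⁻¹ * a)⁻¹ * z
      = g⁻¹ * ((a * x * a⁻¹) * (g * z * g⁻¹)) * g := by group
    _ = g⁻¹ * ((g * z * g⁻¹) * (a * x * a⁻¹)) * g := by rw [h]
    _ = _ := by group

theorem isSolvable_aux
    (hFT : ∀ (H : Type u) [Group H] [Finite H], Odd (Nat.card H) → Group.IsSolvable H) :
    ∀ (n : ℕ) (G : Type u) [Group G] [Finite G], Nat.card G ≤ n → (∀ x : G, ¬ 4 ∣ cls x) →
      Group.IsSolvable G
  | 0, G, _, _, hn, _ => absurd Nat.card_pos (not_lt.mpr hn)
  | n + 1, G, _, _, hn, h4 => by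
    by_cases hnt : ∃ N : Subgroup G, N.Normal ∧ N ≠ ⊥ ∧ N ≠ ⊤
    · obtain ⟨N, hN, hb, ht⟩ := hnt
      have h1 : Nat.card N < Nat.card G :=
        lt_of_le_of_ne (card_le_card_group N) fun h => ht (eq_top_of_card_eq N h)
      have h2 : Nat.card (G ⧸ N) < Nat.card G := by
        rw [← index_eq_card, ← card_mul_index N]
        have : 1 < Nat.card N := (one_lt_card_iff_ne_bot (H := N)).mpr hb
        have := Nat.pos_of_ne_zero (index_ne_zero_of_finite (H := N))
        nlinarith
      haveI hNs : Group.IsSolvable N := isSolvable_aux hFT n N (by omega)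
        fun x hx => h4 (x : G) (hx.trans (cls_subgroup_dvd N x))
      haveI hQs : Group.IsSolvable (G ⧸ N) := isSolvable_aux hFT n (G ⧸ N) (by omega) fun x hx => by
        obtain ⟨y, rfl⟩ := QuotientGroup.mk'_surjective N x
        exact h4 y (hx.trans (cls_map_dvd _ (QuotientGroup.mk'_surjective N) y))
      exact Group.isSolvable_of_ker_le_range N.subtype (QuotientGroup.mk' N) (by simp)
    · push Not at hnt
      rcases subsingleton_or_nontrivial G with h | h
      · infer_instance
      haveI : IsSimpleGroup G := ⟨fun N hN => by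
        by_cases hb : N = ⊥
        · exact Or.inl hb
        · exact Or.inr (hnt N hN hb)⟩
      by_cases hodd : Odd (Nat.card G)
      · exact hFT G hodd
      haveI : Fact (Nat.Prime 2) := ⟨Nat.prime_two⟩
      obtain ⟨z, hz⟩ := exists_prime_orderOf_dvd_card' (G := G) 2
        (Nat.dvd_of_mod_eq_zero (Nat.not_odd_iff.mp hodd))
      by_cases h2 : Nat.card G = 2
      · haveI : IsCyclic G := isCyclic_of_prime_card h2
        exact Group.isSolvable_of_comm (fun a b => (IsCyclic.commGroup).mul_comm a b)
      have htop := centralizer_eq_top_of_simple h2 h4 z hz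
      have hzc : z ∈ center G := mem_center_iff.mpr fun g => mem_cent.mp (htop ▸ mem_top g)
      have hne : center G ≠ ⊥ := fun h => by
        rw [h, mem_bot] at hzc; rw [hzc, orderOf_one] at hz; omega
      have hct := (IsSimpleGroup.eq_bot_or_eq_top_of_normal (center G) inferInstance).resolve_left hne
      exact Group.isSolvable_of_comm (fun a b => mem_center_iff.mp (hct ▸ mem_top b) a)

theorem isSolvable {G : Type u} [Group G] [Finite G]
    (hFT : ∀ (H : Type u) [Group H] [Finite H], Odd (Nat.card H) → Group.IsSolvable H)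
    (h4 : ∀ x : G, ¬ 4 ∣ cls x) : Group.IsSolvable G :=
  isSolvable_aux hFT _ G le_rfl h4

end Cfsg.Agent.ClassSq
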