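import Cfsg.Agent.ClassSq.Basic
import Cfsg.Agent.H30.Supersolvable
import Cfsg.Agent.Hall.MinimalNormal

/-!
# A solvable group with square-free class sizes is supersolvable
-/

set_option autoImplicit false
set_option linter.style.haveILetI false

namespace Cfsg.Agent.ClassSq

open Subgroup
open scoped commutatorElement

universe u

theorem card_range_dvd_of_squarefree {G : Type u} [Group G] [Finite G] (N : Subgroup G) [N.Normal]
    [IsMulCommutative N] {p : ℕ} (hp : p.Prime) (hN : IsPGroup p N) {x : G}
    (hsq : Squarefree (cls x)) : Nat.card (disp N x).range ∣ p := by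
  haveI : Fact p.Prime := ⟨hp⟩
  obtain ⟨k, hk⟩ := IsPGroup.iff_card.mp (hN.to_subgroup (disp N x).range)
  rw [hk]
  have h := hsq.squarefree_of_dvd (hk ▸ card_range_disp_dvd N x)
  rcases Nat.lt_or_ge k 2 with h2 | h2
  · exact (pow_dvd_pow p (by omega : k ≤ 1)).trans (dvd_of_eq (pow_one p))
  · have h1 : IsUnit p := h p (by rw [← sq]; exact pow_dvd_pow p h2)
    exact absurd (Nat.isUnit_iff.mp h1) hp.ne_one

theorem centralizer_eq_of_fixed {G : Type u} [Group G] (N A : Subgroup G) [N.Normal] [A.Normal]
    (hmin : ∀ K : Subgroup G, K.Normal → K ≤ N → K = ⊥ ∨ K = N) {n : G} (hn : n ∈ N) (hn1 : n ≠ 1)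
    (hfix : ∀ a ∈ A, a * n = n * a) : A ≤ centralizer (N : Set G) := by
  rcases hmin (N ⊓ centralizer (A : Set G)) inferInstance inf_le_left with h | h
  · have : n ∈ N ⊓ centralizer (A : Set G) := ⟨hn, mem_centralizer_iff.mpr hfix⟩
    rw [h, mem_bot] at this
    exact absurd this hn1
  · exact le_centralizer_iff.mp (inf_eq_left.mp h)

theorem card_prime_of_minimal {G : Type u} [Group G] [Finite G] [Group.IsSolvable G]
    (hsq : ∀ x : G, Squarefree (cls x)) (N : Subgroup G) [N.Normal] (hN : N ≠ ⊥)
    (hmin : ∀ K : Subgroup G, K.Normal → K ≤ N → K = ⊥ ∨ K = N) : (Nat.card N).Prime := by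
  classical
  obtain ⟨hab, p, hp, hNp, hexp⟩ := Hall.minimal_normal_of_solvable hN hmin
  haveI := hab
  haveI : Fact p.Prime := ⟨hp⟩
  obtain ⟨n0, hn0, hn01⟩ := (Subgroup.bot_or_exists_ne_one N).resolve_left hN
  by_contra hnp
  -- some term of the derived series is not central on `N` but has derived term central on `N`
  obtain ⟨A, hA, hAC, hAA⟩ : ∃ A : Subgroup G, A.Normal ∧ ¬ A ≤ centralizer (N : Set G) ∧
      ⁅A, A⁆ ≤ centralizer (N : Set G) := by
    obtain ⟨d, hd⟩ := (Group.isSolvable_def G).mp inferInstance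
    have hex : ∃ k, derivedSeries G k ≤ centralizer (N : Set G) := ⟨d, by rw [hd]; exact bot_le⟩
    have hspec := Nat.find_spec hex
    rcases Nat.eq_zero_or_pos (Nat.find hex) with h0 | hpos
    · exfalso
      rw [h0, derivedSeries_zero] at hspec
      apply hnp
      have hc : ∀ g : G, g * n0 = n0 * g := fun g =>
        (mem_centralizer_iff.mp (hspec (mem_top g)) n0 hn0).symm
      have hnorm : (zpowers n0).Normal := by
        refine ⟨fun x hx g => ?_⟩
        obtain ⟨k, rfl⟩ := mem_zpowers_iff.mp hx
        have hcg : Commute g n0 := hc g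
        rw [(hcg.zpow_right k).eq, mul_inv_cancel_right]
        exact hx
      have hz := (hmin _ hnorm (zpowers_le.mpr hn0)).resolve_left
        fun h => hn01 (zpowers_eq_bot.mp h)
      rw [← hz, Nat.card_zpowers, orderOf_eq_prime (hexp n0 hn0) hn01]
      exact hp
    · refine ⟨derivedSeries G (Nat.find hex - 1), derivedSeries_normal G _,
        Nat.find_min hex (by omega), ?_⟩
      rw [← derivedSeries_succ, Nat.sub_add_cancel hpos]
      exact hspec
  have hcard : ∀ x : G, Nat.card (disp N x).range ∣ p := fun x =>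
    card_range_dvd_of_squarefree N hp hNp (hsq x)
  -- an element of `A` acting nontrivially with order prime to `p`
  obtain ⟨g, hgA, hgC, hgm⟩ : ∃ g ∈ A, g ∉ centralizer (N : Set G) ∧
      ∃ m : ℕ, ¬ p ∣ m ∧ g ^ m ∈ centralizer (N : Set G) := by
    by_contra hno
    push Not at hno
    apply hAC
    have hpgrp : IsPGroup p (A.map (MulAut.conjNormal (H := N))) := by
      rintro ⟨φ, a, ha, rfl⟩
      refine ⟨(orderOf a).factorization p, Subtype.ext ?_⟩
      have hmem : a ^ p ^ (orderOf a).factorization p ∈ centralizer (N : Set G) := by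
        by_contra hc
        refine hno _ (pow_mem ha _) hc (orderOf a / p ^ (orderOf a).factorization p)
          (Nat.not_dvd_ordCompl hp (orderOf_pos a).ne') ?_
        rw [← pow_mul, Nat.mul_div_cancel' (Nat.ordProj_dvd _ p), pow_orderOf_eq_one]
        exact one_mem _
      rw [SubmonoidClass.coe_pow, coe_one, ← map_pow]
      refine MulEquiv.ext fun n => Subtype.ext ?_
      rw [MulAut.conjNormal_apply, MulAut.one_apply,
        ← mem_centralizer_iff.mp hmem n n.2, mul_inv_cancel_right]
    obtain ⟨k, hk⟩ := IsPGroup.iff_card.mp hNp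
    have hdvd : p ∣ Nat.card N := by
      rcases k with _ | k
      · exact absurd (eq_bot_of_card_eq N (by simpa using hk)) hN
      · rw [hk]; exact dvd_pow_self p (by omega)
    obtain ⟨n, hn, hn1⟩ := hpgrp.exists_fixed_point_of_prime_dvd_card_of_fixed_point N hdvd
      (a := (1 : N)) (by intro φ; exact map_one (φ : MulAut N))
    refine centralizer_eq_of_fixed N A hmin n.2 (fun h => hn1 (Subtype.ext h.symm)) fun a ha => ?_
    have := congrArg Subtype.val (hn ⟨_, mem_map_of_mem (MulAut.conjNormal (H := N)) ha⟩)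
    change ((MulAut.conjNormal (H := N) a) n : G) = n at this
    rw [MulAut.conjNormal_apply] at this
    exact mul_inv_eq_iff_eq_mul.mp this
  have hne : ∀ x : G, x ∉ centralizer (N : Set G) → (disp N x).ker ≠ ⊤ := fun x hx h => hx (by
    rw [mem_centralizer_iff]
    intro n hn
    exact ((disp_eq_one_iff N).mp (MonoidHom.mem_ker.mp (h ▸ mem_top (⟨n, hn⟩ : N)))).symm)
  have hall : ∀ a ∈ A, (disp N g).ker ≤ (disp N a).ker := by
    intro a ha
    by_cases hat : (disp N a).ker = ⊤
    · rw [hat]; exact le_top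
    refine le_of_eq (ker_eq_of_commute N hgm hcard (fun n => ?_) (hne g hgC) hat)
    have hc : (a * g)⁻¹ * (g * a) ∈ centralizer (N : Set G) := by
      refine hAA ?_
      have e : (a * g)⁻¹ * (g * a) = ⁅g⁻¹, a⁻¹⁆ := by rw [commutatorElement_def]; group
      rw [e]
      exact commutator_mem_commutator (inv_mem hgA) (inv_mem ha)
    have h := mem_centralizer_iff.mp hc n n.2
    calc g * a * (n : G) * (g * a)⁻¹
        = a * g * (((a * g)⁻¹ * (g * a)) * n) * (g * a)⁻¹ := by group
      _ = a * g * ((n : G) * ((a * g)⁻¹ * (g * a))) * (g * a)⁻¹ := by rw [h]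
      _ = _ := by group
  -- the fixed subgroup of `g` is nontrivial, and fixed by all of `A`
  have hker : (disp N g).ker ≠ ⊥ := fun h => by
    have hi := ker_index_dvd N g (hcard g)
    rw [h, index_bot] at hi
    rcases (Nat.dvd_prime hp).mp hi with h1 | h1
    · exact hN (eq_bot_of_card_eq N h1)
    · exact hnp (h1.symm ▸ hp)
  obtain ⟨n, hn, hn1⟩ := (Subgroup.bot_or_exists_ne_one (disp N g).ker).resolve_left hker
  exact hAC (centralizer_eq_of_fixed N A hmin n.2 (fun h => hn1 (Subtype.ext h)) fun a ha =>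
    (disp_eq_one_iff N).mp (MonoidHom.mem_ker.mp (hall a ha hn)))

theorem isSupersolvable_aux : ∀ (n : ℕ) (G : Type u) [Group G] [Finite G], Nat.card G ≤ n →
    Group.IsSolvable G → (∀ x : G, Squarefree (cls x)) → Cfsg.IsSupersolvable G
  | 0, G, _, _, hn, _, _ => absurd Nat.card_pos (not_lt.mpr hn)
  | n + 1, G, _, _, hn, hs, hsq => by
    rcases subsingleton_or_nontrivial G with h | h
    · exact H30.isSupersolvable_of_subsingleton
    haveI := hs
    obtain ⟨N, hNn, hN, -, hmin⟩ := Hall.exists_minimal_normal_le (⊤ : Subgroup G) top_ne_bot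
    have hcard := card_prime_of_minimal hsq N hN hmin
    refine H30.isSupersolvable_of_quotient_cyclic N (H30.isCyclic_of_prime_card' hcard) ?_
    have hlt := H30.card_quotient_lt N hN
    refine isSupersolvable_aux n (G ⧸ N) (by omega) inferInstance fun x => ?_
    obtain ⟨y, rfl⟩ := QuotientGroup.mk'_surjective N x
    exact (hsq y).squarefree_of_dvd (cls_map_dvd _ (QuotientGroup.mk'_surjective N) y)

theorem isSupersolvable {G : Type u} [Group G] [Finite G] (hs : Group.IsSolvable G)
    (hsq : ∀ x : G, Squarefree (cls x)) : Cfsg.IsSupersolvable G :=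
  isSupersolvable_aux _ G le_rfl hs hsq

end Cfsg.Agent.ClassSq
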